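import Groth.Agent.DEquivH6.DiagPhi
import Groth.Agent.DerivedCoh.PushPull.Adjunction
import Groth.Agent.Dual3Gor.RplusTotal
import Groth.Prelude.Def_Dual3

/-!
# `RHom(i_*O, -) = i_* R Hom(O_Z, -)` for a closed immersion
-/

set_option autoImplicit false
universe u

open CategoryTheory CategoryTheory.Limits AlgebraicGeometry
open Groth.DerivedCoh.KFlat

namespace Groth.Dual3PushUnit

attribute [local instance] HasDerivedCategory.standard

variable {Z X : Scheme.{u}} (i : Z ⟶ X) [IsClosedImmersion i]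
  [PreservesFiniteLimits (Scheme.Modules.pushforward i)]
  [PreservesFiniteColimits (Scheme.Modules.pushforward i)]

omit [IsClosedImmersion i] in
/-- The derived direct image of an exact `i_*` is `i_*`. -/
theorem nonempty_rpush_pushD [DCoh.HasRpush i] : Nonempty (DCoh.Rpush i ≅ Dual3.pushD i) := by
  haveI : ((Scheme.Modules.pushforward i).mapHomotopyCategory (ComplexShape.up ℤ) ⋙
      DerivedCategory.Qh).HasRightDerivedFunctor
      (HomotopyCategory.quasiIso Z.Modules (ComplexShape.up ℤ)) := ‹DCoh.HasRpush i›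
  obtain ⟨e⟩ := Groth.Dual3Gor.RplusTotal.nonempty_totalR_iso_map (Scheme.Modules.pushforward i)
  exact ⟨e⟩

/-- `- ⊗^L i_*O = i_* Li^*`. -/
theorem nonempty_ltcx (E : CochainComplex X.Modules ℤ) [DCoh.HasLTensorCx E]
    (e : DCoh.toD X E ≅ DCoh.inD X ((Scheme.Modules.pushforward i).obj (Coh.structureModule Z)))
    [DCoh.HasLpull i] [DCoh.HasRpush i] :
    Nonempty (DCoh.LTensorCx E ≅ DCoh.Lpull i ⋙ Dual3.pushD i) := by
  let N := (Scheme.Modules.pushforward i).obj (Coh.structureModule Z)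
  haveI := hasLTensorCx ((HomologicalComplex.single X.Modules (ComplexShape.up ℤ) 0).obj N)
  obtain ⟨e₁⟩ := Groth.DEquivH6.DiagPhi.nonempty_ltcx_congr (K := E)
    (E := (HomologicalComplex.single X.Modules (ComplexShape.up ℤ) 0).obj N)
    (e ≪≫ (DerivedCategory.singleFunctorIsoCompQ X.Modules 0).app N)
  obtain ⟨e₂⟩ := Groth.DEquivH6.DiagPhi.nonempty_ltcx_push i
  obtain ⟨e₃⟩ := nonempty_rpush_pushD i
  exact ⟨e₁ ≪≫ e₂ ≪≫ Functor.isoWhiskerLeft _ e₃⟩

variable [Dual3.HasHomO i]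
  [((Dual3.homO i).mapHomotopyCategory (ComplexShape.up ℤ) ⋙ DerivedCategory.Qh (C := Z.Modules)).HasRightDerivedFunctor
    (HomotopyCategory.quasiIso X.Modules (ComplexShape.up ℤ))]

/-- `RHom(i_*O, -) = i_* R Hom(O_Z, -)` on `D(X)`. -/
theorem nonempty_rhom (E : CochainComplex X.Modules ℤ) [DCoh.HasLTensorCx E] [DCoh.HasRSheafHom E]
    (e : DCoh.toD X E ≅ DCoh.inD X ((Scheme.Modules.pushforward i).obj (Coh.structureModule Z))) :
    Nonempty (Groth.DerivedAdj.totalR (Dual3.homO i) ⋙ Dual3.pushD i ≅ DCoh.RSheafHom E) := by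
  haveI := Groth.DerivedCoh.KFlat.hasLpull i
  haveI : DCoh.HasRpush i :=
    Groth.Misc4.PushRestrict.hasRightDerived (Scheme.Modules.pushforward i)
  obtain ⟨e₁⟩ := nonempty_ltcx i E e
  obtain ⟨e₃⟩ := nonempty_rpush_pushD i
  let adj₁ : DCoh.Lpull i ⊣ Dual3.pushD i :=
    (Groth.DerivedCoh.PushPull.lpullRpushAdj i).ofNatIsoRight e₃
  let adj₂ : Dual3.pushD i ⊣ Groth.DerivedAdj.totalR (Dual3.homO i) :=
    Groth.DerivedAdj.derivedAdj (Dual3.homOAdj i) (enoughKInj X)
  exact ⟨(adj₁.comp adj₂).rightAdjointUniq ((DCoh.RSheafHomAdj E).ofNatIsoLeft e₁)⟩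

end Groth.Dual3PushUnit
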