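import Groth.Agent.Misc7.ClosedImm.Modules
import Groth.Agent.QCohMod.SubMod
import Groth.Prelude.Def_Dual3

/-!
The right adjoint of `i_*` for a closed immersion: the counit is a monomorphism whose image consists of
the sections killed by the ideal.
-/

universe u

open CategoryTheory CategoryTheory.Limits AlgebraicGeometry TopologicalSpace Opposite

namespace Groth.Dual3HomO

open Groth.QCohMod (SubMod res resFun res_res res_self res_smul germ germ_res germ_smul exists_germ)

variable {X Z : Scheme.{u}} (i : Z ⟶ X)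

/-- Sections killed by the ideal of `i` on every affine open. -/
noncomputable def killedSub (F : X.Modules) : SubMod F where
  mem W :=
    { carrier := {s | ∀ (V : X.affineOpens) (h : V.1 ≤ W), ∀ a ∈ i.ker.ideal V, a • res F h s = 0}
      add_mem' := fun {s t} hs ht V h a ha => by
        rw [map_add, smul_add, hs V h a ha, ht V h a ha, add_zero]
      zero_mem' := fun V h a _ => by rw [map_zero, smul_zero]
      smul_mem' := fun r s hs V h a ha => by rw [res_smul, smul_comm, hs V h a ha, smul_zero] }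
  res_mem := fun {W W'} h s hs V hV a ha => by
    rw [res_res]
    exact hs V (hV.trans h) a ha
  local_mem := fun {W} s hs V hV a ha => by
    refine Groth.CohTwo.eq_of_local F _ 0 fun x hx => ?_
    obtain ⟨W', hW', hxW', hmem⟩ := hs x (hV hx)
    obtain ⟨_, ⟨V', hV', rfl⟩, hxV', hV'le⟩ :=
      X.isBasis_affineOpens.exists_subset_of_mem_open
        (show x ∈ ((W' ⊓ V.1 : X.Opens) : Set X) from ⟨hxW', hx⟩) (W' ⊓ V.1).2
    have h1 : V' ≤ W' ⊓ V.1 := hV'le
    refine ⟨V', h1.trans inf_le_right, hxV', ?_⟩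
    change res F (h1.trans inf_le_right) (a • res F hV s) = res F (h1.trans inf_le_right) 0
    rw [map_zero, res_smul, res_res]
    have h2 := hmem ⟨V', hV'⟩ (h1.trans inf_le_left) (resFun X (h1.trans inf_le_right) a)
      (Scheme.IdealSheafData.ideal_le_comap_ideal i.ker (U := ⟨V', hV'⟩) (V := V)
        (h1.trans inf_le_right) ha)
    rw [res_res] at h2
    exact h2

/-- On an affine open, being killed by the ideal of that open suffices. -/
lemma mem_killedSub {F : X.Modules} {U : X.affineOpens} (s : Γ(F, U.1))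
    (hs : ∀ a ∈ i.ker.ideal U, a • s = 0) : s ∈ (killedSub i F).mem U.1 := by
  intro V h a ha
  have ha' : a ∈ (i.ker.ideal U).map (resFun X h) := (i.ker.map_ideal (U := V) (V := U) h).ge ha
  induction ha' using Submodule.span_induction with
  | mem b hb =>
    obtain ⟨c, hc, rfl⟩ := hb
    rw [← res_smul, hs c hc, map_zero]
  | zero => rw [zero_smul]
  | add b c _ _ hb hc =>
    rw [add_smul, hb ((i.ker.map_ideal (U := V) (V := U) h).le ‹_›),
      hc ((i.ker.map_ideal (U := V) (V := U) h).le ‹_›), add_zero]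
  | smul d b _ hb =>
    rw [smul_eq_mul, mul_smul, hb ((i.ker.map_ideal (U := V) (V := U) h).le ‹_›), smul_zero]

variable [IsClosedImmersion i]

lemma killed_killedSub (F : X.Modules) : Groth.Misc7.ClosedImm.Killed i (killedSub i F).toMod := by
  refine ⟨fun x hx t => ?_, fun z a ha t => ?_⟩
  · obtain ⟨U, hU, s, rfl⟩ := exists_germ (killedSub i F).toMod x t
    let W : X.Opens := U ⊓ ⟨(Set.range i)ᶜ, i.isClosedEmbedding.isClosed_range.isOpen_compl⟩
    obtain ⟨_, ⟨V, hV, rfl⟩, hxV, hVW⟩ := X.isBasis_affineOpens.exists_subset_of_mem_open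
      (show x ∈ (W : Set X) from ⟨hU, hx⟩) W.2
    have hVW' : V ≤ W := hVW
    have h0 : ∀ (y : X), y ∈ V → y ∉ Set.range i := fun y hy => (hVW' hy).2
    haveI : Subsingleton Γ(Z, i ⁻¹ᵁ V) := by
      rw [show i ⁻¹ᵁ V = ⊥ from eq_bot_iff.2 fun z hz => (h0 (i z) hz ⟨z, rfl⟩).elim]
      infer_instance
    have h1 : (1 : Γ(X, V)) ∈ i.ker.ideal ⟨V, hV⟩ := by
      rw [Scheme.Hom.ker_apply, RingHom.mem_ker]
      exact Subsingleton.elim _ _
    rw [← germ_res (killedSub i F).toMod (hVW'.trans inf_le_left) x hxV s]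
    refine Eq.trans (congrArg _ ?_) (map_zero (germ (killedSub i F).toMod x (U := V) hxV))
    refine (killedSub i F).ι_app_injective V (Subtype.val_injective.eq_iff.2 rfl |>.trans ?_)
    rw [map_zero]
    have hmem := (killedSub i F).ι_app_mem (res (killedSub i F).toMod (hVW'.trans inf_le_left) s)
      ⟨V, hV⟩ le_rfl 1 h1
    rwa [one_smul, res_self] at hmem
  · obtain ⟨U, hU, s, rfl⟩ := exists_germ (killedSub i F).toMod (i z) t
    obtain ⟨V, hV, r, rfl⟩ := TopCat.Presheaf.exists_germ_eq X.presheaf a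
    rw [Scheme.Hom.germ_stalkMap_apply] at ha
    obtain ⟨Z', hzZ', j, j', he⟩ := TopCat.Presheaf.germ_eq Z.presheaf z hV hV (i.app V r) 0
      (ha.trans (map_zero (Z.presheaf.germ (i ⁻¹ᵁ V) z hV).hom).symm)
    obtain ⟨U', hU', hU''⟩ := i.isClosedEmbedding.isInducing.isOpen_iff.mp Z'.2
    let W : X.Opens := U ⊓ V ⊓ ⟨U', hU'⟩
    have hzW : i z ∈ W := ⟨⟨hU, hV⟩, show z ∈ i ⁻¹' U' from hU''.symm ▸ hzZ'⟩
    obtain ⟨_, ⟨A, hA, rfl⟩, hzA, hAW⟩ := X.isBasis_affineOpens.exists_subset_of_mem_open
      (show i z ∈ (W : Set X) from hzW) W.2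
    have hAW' : A ≤ W := hAW
    have hAV : A ≤ V := hAW'.trans (inf_le_left.trans inf_le_right)
    have hAZ : i ⁻¹ᵁ A ≤ Z' := fun y hy => (Set.ext_iff.1 hU'' y).1 (hAW' hy).2
    have hr : resFun X hAV r ∈ i.ker.ideal ⟨A, hA⟩ := by
      rw [Scheme.Hom.ker_apply, RingHom.mem_ker]
      have h2 : i.app A (X.presheaf.map (homOfLE hAV).op r) =
          Z.presheaf.map (homOfLE (i.preimage_mono hAV)).op (i.app V r) :=
        congr($(i.naturality (homOfLE hAV).op) r)
      refine h2.trans ?_
      have h3 : Z.presheaf.map (homOfLE (i.preimage_mono hAV)).op =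
          Z.presheaf.map j.op ≫ Z.presheaf.map (homOfLE hAZ).op := by
        rw [← Functor.map_comp]
        rfl
      exact (congr($h3 (i.app V r))).trans
        ((congrArg (Z.presheaf.map (homOfLE hAZ).op) (he.trans (map_zero _))).trans (map_zero _))
    rw [← germ_res (killedSub i F).toMod (hAW'.trans (inf_le_left.trans inf_le_left)) (i z) hzA s,
      ← TopCat.Presheaf.germ_res_apply X.presheaf (homOfLE hAV) (i z) hzA r]
    change X.presheaf.germ A (i z) hzA (resFun X hAV r) • _ = _
    rw [← germ_smul]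
    refine Eq.trans (congrArg _ ?_) (map_zero (germ (killedSub i F).toMod (i z) (U := A) hzA))
    refine (killedSub i F).ι_app_injective A ?_
    rw [map_zero, Scheme.Modules.Hom.app_smul]
    have hmem := (killedSub i F).ι_app_mem
      (res (killedSub i F).toMod (hAW'.trans (inf_le_left.trans inf_le_left)) s) ⟨A, hA⟩ le_rfl _ hr
    rwa [res_self] at hmem

variable [Dual3.HasHomO i]

/-- The counit `i_* Hom(O_Z, F) ⟶ F` is a monomorphism. -/
theorem mono_counit (F : X.Modules) : Mono ((Dual3.homOAdj i).counit.app F) := by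
  let ε : (Scheme.Modules.pushforward i).obj ((Dual3.homO i).obj F) ⟶ F :=
    (Dual3.homOAdj i).counit.app F
  suffices h : kernel.ι ε = 0 from Preadditive.mono_of_kernel_zero h
  have hK : Groth.Misc7.ClosedImm.Killed i (kernel ε) := by
    have hinj : ∀ x, Function.Injective (Algz.stalkMapₗ (kernel.ι ε) x) := fun x =>
      ((Groth.QCohMod.mono_iff_stalk (kernel.ι ε)).1 inferInstance x)
    have hp := Groth.Misc7.ClosedImm.killed_push i ((Dual3.homO i).obj F)
    exact ⟨fun x hx t => hinj x ((hp.outside x hx _).trans (map_zero _).symm),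
      fun z a ha t => hinj (i z) (by rw [map_smul, hp.killed z a ha, map_zero])⟩
  haveI := Groth.Misc7.ClosedImm.isIso_unit i hK
  let η := (Scheme.Modules.pullbackPushforwardAdjunction i).unit.app (kernel ε)
  let g := (Groth.Misc7.ClosedImm.fullyFaithfulPush i).preimage (inv η ≫ kernel.ι ε)
  have hg : (Scheme.Modules.pushforward i).map g = inv η ≫ kernel.ι ε :=
    (Groth.Misc7.ClosedImm.fullyFaithfulPush i).map_preimage _
  have h0 : ((Dual3.homOAdj i).homEquiv _ _).symm g = 0 := by
    rw [Adjunction.homEquiv_counit, hg]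
    change (inv η ≫ kernel.ι ε) ≫ ε = 0
    rw [Category.assoc, kernel.condition, comp_zero]
  have h1 : g = 0 := by
    apply ((Dual3.homOAdj i).homEquiv _ _).symm.injective
    rw [h0, Adjunction.homEquiv_counit, Functor.map_zero, zero_comp]
  have h2 : inv η ≫ kernel.ι ε = 0 := by rw [← hg, h1, Functor.map_zero]
  exact (cancel_epi (inv η)).1 (h2.trans comp_zero.symm)

/-- Sections of `F` killed by the ideal come from the counit. -/
theorem exists_counit_app_eq (F : X.Modules) (U : X.affineOpens) (s : Γ(F, U.1))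
    (hs : ∀ a ∈ i.ker.ideal U, a • s = 0) :
    ∃ y, ((Dual3.homOAdj i).counit.app F).app U.1 y = s := by
  haveI := Groth.Misc7.ClosedImm.isIso_unit i (killed_killedSub i F)
  let η := (Scheme.Modules.pullbackPushforwardAdjunction i).unit.app (killedSub i F).toMod
  let γ := (Dual3.homOAdj i).homEquiv _ _ (inv η ≫ (killedSub i F).ι)
  have hγ : (killedSub i F).ι =
      η ≫ (Scheme.Modules.pushforward i).map γ ≫ (Dual3.homOAdj i).counit.app F := by
    have e : (Scheme.Modules.pushforward i).map γ ≫ (Dual3.homOAdj i).counit.app F =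
        inv η ≫ (killedSub i F).ι :=
      (Adjunction.homEquiv_counit _ _ _ γ).symm.trans (Equiv.symm_apply_apply _ _)
    exact ((congrArg (η ≫ ·) e).trans (IsIso.hom_inv_id_assoc η (killedSub i F).ι)).symm
  obtain ⟨t, ht⟩ := (killedSub i F).exists_ι_app_eq s (mem_killedSub i s hs)
  refine ⟨((Scheme.Modules.pushforward i).map γ).app U.1 (η.app U.1 t), ?_⟩
  have := congr(($hγ).app U.1 t)
  exact this.symm.trans ht

end Groth.Dual3HomO
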