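import Groth.Agent.Dual3HomO.PushUnit
import Groth.Agent.Dual3Gor.ShriekClosed
import Groth.Agent.Misc4.QCohDRHom
import Groth.Agent.Misc4.HasRSheafHom
import Groth.Agent.QCohMod.PullbackQCoh

/-!
# `i^× = R Hom(O_Z, -)` on bounded below objects when `i_*O_Z` is pseudo-coherent
-/

set_option autoImplicit false
universe u

open CategoryTheory CategoryTheory.Limits AlgebraicGeometry

attribute [local instance] HasDerivedCategory.standard

namespace Groth.Dual3ShriekPCoh

open Groth.DerivedCoh.KFlat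

set_option maxHeartbeats 1000000

variable {Z X : Scheme.{u}} (i : Z ⟶ X) [IsClosedImmersion i]

omit [IsClosedImmersion i] in
lemma isQCoh_homology_map [PreservesFiniteLimits (Scheme.Modules.pushforward i)]
    [PreservesFiniteColimits (Scheme.Modules.pushforward i)] {M : DCoh.D Z}
    (h : DCoh.IsQCohD ((Dual3.pushD i).obj M)) (n : ℤ) :
    ((Scheme.Modules.pushforward i).obj (DCoh.HD M n)).IsQuasicoherent :=
  (Groth.QCohMod.isQCoh_iff_of_iso
    (Groth.DerivedAdj.homologyMapDerivedIso (Scheme.Modules.pushforward i) M n)).1 (h n)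

/-- A complex on a closed subscheme is quasi-coherent if its direct image is. -/
lemma isQCohD_of_pushD [PreservesFiniteLimits (Scheme.Modules.pushforward i)]
    [PreservesFiniteColimits (Scheme.Modules.pushforward i)] {M : DCoh.D Z}
    (h : DCoh.IsQCohD ((Dual3.pushD i).obj M)) : DCoh.IsQCohD M := fun n => by
  haveI := isQCoh_homology_map i h n
  exact (Groth.QCohMod.isQCoh_iff_of_iso
    (asIso ((Scheme.Modules.pullbackPushforwardAdjunction i).counit.app (DCoh.HD M n)))).1
    (Groth.QCohMod.isQCoh_pullback_obj _ _)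

variable [Dual3.HasHomO i] [EnoughInjectives X.Modules]

/-- `R Hom(O_Z, -)` preserves quasi-coherent cohomology when `i_*O_Z` is pseudo-coherent. -/
theorem isQCohD_RHomO (hpc : ∀ m : ℤ, DCoh.IsPseudoCoherentD m
      (DCoh.inD X ((Coh.push i).obj (Coh.structureModule Z))))
    (K : DerivedCategory.Plus X.Modules) (hK : DCoh.IsQCohD K.obj) :
    DCoh.IsQCohD ((Dual3.RHomOPlus i).obj K).obj := by
  haveI := Groth.Misc6.DevissageSupp.preservesFiniteLimits_push i
  haveI := Groth.Misc6.DevissageSupp.preservesFiniteColimits_push i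
  haveI := Groth.Misc4.PushRestrict.hasRightDerived (X := X) (Dual3.homO i)
  let N := (Scheme.Modules.pushforward i).obj (Coh.structureModule Z)
  let E := (flatResolution X).obj ((HomologicalComplex.single X.Modules (ComplexShape.up ℤ) 0).obj N)
  haveI : IsIso (DerivedCategory.Q.map ((flatResolutionAug X).app
      ((HomologicalComplex.single X.Modules (ComplexShape.up ℤ) 0).obj N))) :=
    (DerivedCategory.isIso_Q_map_iff_quasiIso _ _).2 (flatResolution_quasiIso _)
  let eE : DCoh.toD X E ≅ DCoh.inD X N :=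
    asIso (DerivedCategory.Q.map ((flatResolutionAug X).app
      ((HomologicalComplex.single X.Modules (ComplexShape.up ℤ) 0).obj N))) ≪≫
      ((DerivedCategory.singleFunctorIsoCompQ X.Modules 0).app N).symm
  haveI := hasLTensorCx E
  haveI := Groth.Misc4.HasRSheafHom.hasRSheafHom E (flatResolution_isKFlat _) (flatResolution_isFlat _)
  obtain ⟨a⟩ := Groth.Dual3PushUnit.nonempty_rhom i E eE
  obtain ⟨b⟩ := Groth.Dual3Gor.RplusTotal.nonempty_iso (Dual3.homO i) (enoughKInj X)
  obtain ⟨c, hc⟩ := K.property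
  haveI : DerivedCategory.IsGE K.obj c := hc
  exact isQCohD_of_pushD i (Groth.Misc4.QCohDPerf.isQCohD_of_iso
    (a.app K.obj ≪≫ Iso.refl _).symm
      (Groth.Misc4.QCohDRHom.isQCohD_rhom_pcoh E
        (fun m => Groth.DerivedCoh.PCoh.isPseudoCoherentD_of_iso eE.symm (hpc m)) hK c)
    |> Groth.Misc4.QCohDPerf.isQCohD_of_iso ((Dual3.pushD i).mapIso (b.app K).symm))

variable [DCoh.HasRpush i]

theorem nonempty_iso (hpc : ∀ m : ℤ, DCoh.IsPseudoCoherentD m
      (DCoh.inD X ((Coh.push i).obj (Coh.structureModule Z))))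
    (hf : DCoh.RpushPreservesQCoh i) (a : DCoh.DQCoh X ⥤ DCoh.DQCoh Z)
    (adj : DCoh.RpushQ i hf ⊣ a) :
    Nonempty (Dual3.bddι X ⋙ a ⋙ ObjectProperty.ι _ ≅ Dual3.bddToPlus X ⋙ Dual3.RHomOPlus i ⋙
      (DerivedCategory.Plus.ι : DerivedCategory.Plus Z.Modules ⥤ DCoh.D Z)) := by
  let u := Dual3.homO i
  let P := Scheme.Modules.pushforward i
  let hA := Groth.DerivedCoh.KFlat.enoughKInj X
  haveI := Groth.Misc4.PushRestrict.hasRightDerived (X := X) u
  obtain ⟨e₁⟩ := Groth.Dual3Gor.RplusTotal.nonempty_iso u hA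
  haveI : (P.mapHomotopyCategory (ComplexShape.up ℤ) ⋙ DerivedCategory.Qh).HasRightDerivedFunctor
      (HomotopyCategory.quasiIso Z.Modules (ComplexShape.up ℤ)) := ‹DCoh.HasRpush i›
  obtain ⟨e₂⟩ := Groth.Dual3Gor.RplusTotal.nonempty_totalR_iso_map P
  let e₂' : DCoh.Rpush i ≅ P.mapDerivedCategory := e₂
  let dadj : P.mapDerivedCategory ⊣ Groth.DerivedAdj.totalR u :=
    Groth.DerivedAdj.derivedAdj (Dual3.homOAdj i) hA
  let R₀ : (Dual3.IsBddBelowQ X).FullSubcategory ⥤ DCoh.D Z := Dual3.bddToPlus X ⋙ Dual3.RHomOPlus i ⋙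
    (DerivedCategory.Plus.ι : DerivedCategory.Plus Z.Modules ⥤ DCoh.D Z)
  let R : (Dual3.IsBddBelowQ X).FullSubcategory ⥤ DCoh.DQCoh Z :=
    ObjectProperty.lift _ R₀ fun K => isQCohD_RHomO i hpc _ K.obj.property
  let c₀ : R₀ ⋙ DCoh.Rpush i ⟶ Dual3.bddι X ⋙ ObjectProperty.ι _ :=
    { app := fun K => (DCoh.Rpush i).map (e₁.hom.app ((Dual3.bddToPlus X).obj K)) ≫ e₂'.hom.app _ ≫
        dadj.counit.app K.obj.obj
      naturality := fun K K' f => by
        simp only [Functor.comp_map, Category.assoc]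
        rw [← Functor.map_comp_assoc]
        have h1 := e₁.hom.naturality ((Dual3.bddToPlus X).map f)
        simp only [Functor.comp_map] at h1
        erw [h1]
        rw [Functor.map_comp, Category.assoc]
        erw [e₂'.hom.naturality_assoc]
        congr 2
        exact dadj.counit.naturality _ }
  let c : R ⋙ DCoh.RpushQ i hf ⟶ Dual3.bddι X :=
    { app := fun K => ObjectProperty.homMk (c₀.app K)
      naturality := fun K K' f => ObjectProperty.hom_ext _ (c₀.naturality f) }
  refine (Groth.Dual3Gor.ShriekClosed.nonempty_iso_of_represents adj (Dual3.bddι X) R c fun G K => ?_).map fun e =>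
    Functor.isoWhiskerRight e (ObjectProperty.ι _) ≪≫ ObjectProperty.liftCompιIso _ _ _
  have h₀ : Function.Bijective fun g : G.obj ⟶ R₀.obj K => (DCoh.Rpush i).map g ≫ c₀.app K := by
    have : (fun g : G.obj ⟶ R₀.obj K => (DCoh.Rpush i).map g ≫ c₀.app K) =
        (fun h => e₂'.hom.app G.obj ≫ h) ∘ (dadj.homEquiv G.obj K.obj.obj).symm ∘
          fun g => g ≫ e₁.hom.app ((Dual3.bddToPlus X).obj K) := funext fun g => by
      simp only [Function.comp_apply, Adjunction.homEquiv_counit, Functor.map_comp, Category.assoc, c₀]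
      erw [← e₂'.hom.naturality_assoc]
      rw [← e₂'.hom.naturality_assoc]
      rfl
    rw [this]
    exact ((Iso.homFromEquiv (e₂'.app G.obj).symm).bijective.comp ((dadj.homEquiv _ _).symm.bijective)).comp
      (Iso.homToEquiv (e₁.app ((Dual3.bddToPlus X).obj K))).bijective
  refine ⟨fun g g' h => ObjectProperty.hom_ext _ (h₀.1 (congrArg (fun t => t.hom) h)), fun t => ?_⟩
  obtain ⟨g, hg⟩ := h₀.2 t.hom
  exact ⟨ObjectProperty.homMk g, ObjectProperty.hom_ext _ hg⟩

end Groth.Dual3ShriekPCoh
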